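import Groth.Agent.QuadOrderExtLib.Basic

/-!
# Ext¹ between monomial modules with two generators over a monomial subring of `k[[t]]`
-/

set_option autoImplicit false
set_option backward.isDefEq.respectTransparency false
set_option linter.style.haveILetI false

universe u

open CategoryTheory Abelian PowerSeries

namespace Groth.Agent.MonomialExtLib

variable {k : Type u} [Field k]

/-- The series with exponents in `S`. -/
def V (S : Set ℕ) (f : PowerSeries k) : Prop := ∀ m, coeff m f ≠ 0 → m ∈ S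

theorem V_mono {S T : Set ℕ} (h : S ⊆ T) {f : PowerSeries k} (hf : V S f) : V T f :=
  fun m hm => h (hf m hm)

theorem V_add {S : Set ℕ} {f g : PowerSeries k} (hf : V S f) (hg : V S g) : V S (f + g) := by
  intro m hm
  by_contra hS
  exact hm (by rw [map_add, not_not.1 fun h => hS (hf m h), not_not.1 fun h => hS (hg m h), add_zero])

theorem V_neg {S : Set ℕ} {f : PowerSeries k} (hf : V S f) : V S (-f) :=
  fun m hm => hf m (by simpa using hm)

theorem V_zero (S : Set ℕ) : V S (0 : PowerSeries k) := fun m hm => absurd (map_zero _) hm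

theorem V_mul {S T U : Set ℕ} (h : ∀ a ∈ S, ∀ b ∈ T, a + b ∈ U) {f g : PowerSeries k} (hf : V S f)
    (hg : V T g) : V U (f * g) := by
  intro m hm
  rw [PowerSeries.coeff_mul] at hm
  obtain ⟨⟨a, b⟩, hab, hne⟩ := Finset.exists_ne_zero_of_sum_ne_zero hm
  rw [Finset.HasAntidiagonal.mem_antidiagonal] at hab
  obtain ⟨h1, h2⟩ := mul_ne_zero_iff.1 hne
  exact hab ▸ h a (hf a h1) b (hg b h2)

theorem V_X_pow {S : Set ℕ} {a : ℕ} (h : a ∈ S) : V S ((X : PowerSeries k) ^ a) := fun m hm => by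
  rw [PowerSeries.coeff_X_pow] at hm
  by_cases e : m = a
  · exact e ▸ h
  · simp [e] at hm

theorem V_shift {S : Set ℕ} {a : ℕ} {f : PowerSeries k} :
    V S (X ^ a * f) ↔ V {m | a + m ∈ S} f := by
  constructor
  · intro h m hm
    exact h (a + m) (by rwa [PowerSeries.coeff_X_pow_mul', if_pos (Nat.le_add_right a m), Nat.add_sub_cancel_left])
  · intro h m hm
    rw [PowerSeries.coeff_X_pow_mul'] at hm
    by_cases e : a ≤ m
    · rw [if_pos e] at hm
      have := h _ hm
      simpa [Nat.add_sub_cancel' e] using this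
    · simp [e] at hm

theorem exists_div {S : Set ℕ} {a : ℕ} (h : ∀ s ∈ S, a ≤ s) {f : PowerSeries k} (hf : V S f) :
    ∃ g, f = X ^ a * g :=
  PowerSeries.X_pow_dvd_iff.2 fun m hm => by
    by_contra hne
    have := h m (hf m hne)
    omega

/-- The part of a series with exponents in `S`. -/
noncomputable def part (S : Set ℕ) (f : PowerSeries k) : PowerSeries k := by
  classical exact PowerSeries.mk fun m => if m ∈ S then coeff m f else 0

theorem V_part (S : Set ℕ) (f : PowerSeries k) : V S (part S f) := fun m hm => by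
  classical
  simp only [part, PowerSeries.coeff_mk] at hm
  by_contra h
  simp [h] at hm

theorem V_sub_part (S : Set ℕ) {T : Set ℕ} {f : PowerSeries k} (hf : V T f) : V (T \ S) (f - part S f) := by
  classical
  intro m hm
  simp only [part, map_sub, PowerSeries.coeff_mk] at hm
  by_cases h : m ∈ S
  · simp [h] at hm
  · exact ⟨hf m (by simpa [h] using hm), h⟩

variable {A : Subalgebra k (PowerSeries k)}

/-- A monomial module on two generators. -/
theorem mem_span_pair {Γ E : Set ℕ} (hA : ∀ f, f ∈ A ↔ V Γ f) {e : ℕ} (he : e ∈ E) (h0 : 0 ∈ E)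
    (hΓE : ∀ a ∈ Γ, ∀ b ∈ E, a + b ∈ E) (hE : ∀ d ∈ E, d ∉ Γ → e ≤ d ∧ d - e ∈ Γ)
    (f : PowerSeries k) :
    f ∈ Submodule.span A ({1, (X : PowerSeries k) ^ e} : Set (PowerSeries k)) ↔ V E f := by
  rw [Submodule.mem_span_pair]
  constructor
  · rintro ⟨a, b, rfl⟩
    show V E ((a : PowerSeries k) * 1 + (b : PowerSeries k) * X ^ e)
    exact V_add (V_mul hΓE ((hA _).1 a.2) (by simpa using V_X_pow (k := k) h0))
      (V_mul hΓE ((hA _).1 b.2) (V_X_pow he))
  · intro hf
    have h1 := V_sub_part Γ hf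
    obtain ⟨b, hb⟩ := exists_div (a := e) (fun d hd => (hE d hd.1 hd.2).1) h1
    have hbA : b ∈ A := (hA b).2 (V_mono (fun m hm => by
      have := (hE _ hm.1 hm.2).2
      simpa using this) (V_shift.1 (hb ▸ h1)))
    refine ⟨⟨part Γ f, (hA _).2 (V_part Γ f)⟩, ⟨b, hbA⟩, ?_⟩
    show part Γ f * 1 + b * X ^ e = f
    rw [mul_one, mul_comm b, ← hb, add_sub_cancel]

set_option synthInstance.maxHeartbeats 400000 in
set_option maxHeartbeats 2000000 in
theorem length_ext_two [IsAlgClosed k] {Γ EN : Set ℕ} (hA : ∀ f, f ∈ A ↔ V Γ f)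
    (hΓEN : ∀ a ∈ Γ, ∀ b ∈ EN, a + b ∈ EN) (e γ₀ : ℕ) (I D G : Set ℕ)
    (hI : ∀ γ, γ ∈ I ↔ γ ∈ Γ ∧ γ + e ∈ Γ) (hγ₀ : γ₀ ∈ I) (hmin : ∀ γ ∈ I, γ₀ ≤ γ)
    (hD : ∀ d, d ∈ D ↔ ∀ γ ∈ I, d + (γ - γ₀) ∈ EN)
    (hG : ∀ g, g ∈ G ↔ ∃ y ∈ EN, g = γ₀ + y ∨ g = γ₀ + e + y)
    (Qs : Finset ℕ) (hQ : ∀ d, d ∈ Qs ↔ d ∈ D ∧ d ∉ G)
    {M N : Type u} [AddCommGroup M] [Module A M] [AddCommGroup N] [Module A N] [Module k N]
    [IsScalarTower k A N]
    (ιM : M →ₗ[A] PowerSeries k) (hιM : Function.Injective ιM)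
    (hM : ∀ f, f ∈ LinearMap.range ιM ↔ f ∈ Submodule.span A ({1, (X : PowerSeries k) ^ e} : Set (PowerSeries k)))
    (ιN : N →ₗ[A] PowerSeries k) (hιN : Function.Injective ιN) (hN : ∀ f, f ∈ LinearMap.range ιN ↔ V EN f) :
    Module.length A (Ext.{u} (ModuleCat.of A M) (ModuleCat.of A N) 1) = (Qs.card : ℕ∞) := by
  classical
  have hsm : ∀ (c : A) (z : PowerSeries k), c • z = (c : PowerSeries k) * z := fun _ _ => rfl
  let s : PowerSeries k := X ^ e
  let p₀ : A × A →ₗ[A] PowerSeries k :=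
    (LinearMap.toSpanSingleton A _ 1).coprod (LinearMap.toSpanSingleton A _ s)
  have hp₀ : ∀ f, p₀ f = (f.1 : PowerSeries k) + (f.2 : PowerSeries k) * s := fun f => by
    simp [p₀, hsm]
  have hrange : ∀ f, p₀ f ∈ LinearMap.range ιM := fun f => by
    rw [hM, Submodule.mem_span_pair]
    exact ⟨f.1, f.2, by rw [hp₀, hsm, hsm, mul_one]⟩
  let EM := LinearEquiv.ofInjective ιM hιM
  let p : A × A →ₗ[A] M := EM.symm.toLinearMap ∘ₗ p₀.codRestrict (LinearMap.range ιM) hrange
  have hpι : ∀ f, ιM (p f) = p₀ f := fun f => congrArg Subtype.val (EM.apply_symm_apply _)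
  have hpsurj : Function.Surjective p := fun m => by
    obtain ⟨a, b, hab⟩ := Submodule.mem_span_pair.1 ((hM _).1 (LinearMap.mem_range_self ιM m))
    refine ⟨(a, b), hιM ?_⟩
    rw [hpι, hp₀, ← hab, hsm, hsm, mul_one]
  let K := LinearMap.ker p
  have hK : ∀ f, f ∈ K ↔ p₀ f = 0 := fun f => by
    rw [LinearMap.mem_ker, ← hpι, map_eq_zero_iff ιM hιM]
  have hIA : ∀ f : PowerSeries k, V I f ↔ f ∈ A ∧ f * s ∈ A := fun f => by
    rw [hA, hA, mul_comm f s, V_shift]
    exact ⟨fun h => ⟨fun m hm => ((hI m).1 (h m hm)).1, fun m hm => by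
      simpa [add_comm] using ((hI m).1 (h m hm)).2⟩,
      fun h m hm => (hI m).2 ⟨h.1 m hm, by simpa [add_comm] using h.2 m hm⟩⟩
  let u : ∀ f : PowerSeries k, V I f → K := fun f hf =>
    ⟨(⟨-(f * s), A.neg_mem ((hIA f).1 hf).2⟩, ⟨f, ((hIA f).1 hf).1⟩),
      (hK _).2 (by rw [hp₀]; exact neg_add_cancel _)⟩
  have hdecomp : ∀ f : K, ∃ x, ∃ hx : V I x, f = u x hx := by
    intro f
    have h0 := eq_neg_of_add_eq_zero_left (((hp₀ f.1).symm.trans ((hK _).1 f.2)))
    have hx : V I (f.1.2 : PowerSeries k) := (hIA _).2 ⟨f.1.2.2, by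
      have := A.neg_mem f.1.1.2
      rwa [h0, neg_neg] at this⟩
    exact ⟨_, hx, Subtype.ext (Prod.ext (Subtype.ext h0) rfl)⟩
  have h0mem : V I ((X : PowerSeries k) ^ γ₀) := V_X_pow hγ₀
  have hXne : ∀ n : ℕ, (X : PowerSeries k) ^ n ≠ 0 := fun n => pow_ne_zero n X_ne_zero
  let val : (K →ₗ[A] N) →ₗ[k] PowerSeries k :=
    { toFun := fun φ => ιN (φ (u _ h0mem))
      map_add' := fun φ ψ => by simp
      map_smul' := fun c φ => by
        simp only [LinearMap.smul_apply, RingHom.id_apply]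
        rw [← algebraMap_smul A c (φ (u _ h0mem)), map_smul, algebraMap_smul] }
  have hlin : ∀ (φ : K →ₗ[A] N) x hx, X ^ γ₀ * ιN (φ (u x hx)) = x * val φ := by
    intro φ x hx
    let cq : A := ⟨X ^ γ₀, ((hIA _).1 h0mem).1⟩
    let cx : A := ⟨x, ((hIA x).1 hx).1⟩
    have h1 : cq • u x hx = cx • u _ h0mem := by
      refine Subtype.ext (Prod.ext (Subtype.ext ?_) (Subtype.ext ?_))
      · simp [u, cq, cx]; ring
      · simp [u, cq, cx]; ring
    have h2 := congrArg (fun z => ιN (φ z)) h1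
    simp only [map_smul, hsm, cq, cx] at h2
    exact h2
  have hadm : ∀ φ, V D (val φ) := by
    intro φ m hm
    refine (hD m).2 fun γ hγ => ?_
    obtain ⟨y, hy⟩ : ∃ y, ιN (φ (u _ (V_X_pow hγ))) = y := ⟨_, rfl⟩
    have h1 := hlin φ (X ^ γ) (V_X_pow hγ)
    rw [hy, show γ = γ₀ + (γ - γ₀) by have := hmin γ hγ; omega, pow_add, mul_assoc] at h1
    have h2 : V EN (X ^ (γ - γ₀) * val φ) :=
      mul_left_cancel₀ (hXne γ₀) h1 ▸ hy ▸ (hN _).1 (LinearMap.mem_range_self ιN _)
    have := V_shift.1 h2 m hm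
    simpa [add_comm] using this
  let Φ : (K →ₗ[A] N) →ₗ[k] (Qs → k) := (LinearMap.pi fun d : Qs => coeff d.1).comp val
  have hΦsurj : Function.Surjective Φ := by
    intro v
    let x : PowerSeries k := PowerSeries.mk fun m => if h : m ∈ Qs then v ⟨m, h⟩ else 0
    have hx : V D x := fun m hm => by
      simp only [x, PowerSeries.coeff_mk] at hm
      by_cases h : m ∈ Qs
      · exact ((hQ m).1 h).1
      · simp [h] at hm
    let q : PowerSeries k → PowerSeries k := fun f => PowerSeries.mk fun m => coeff (m + γ₀) f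
    have hq : ∀ r, q (X ^ γ₀ * r) = r := fun r => by
      ext m
      simp [q, PowerSeries.coeff_X_pow_mul]
    have hmem : ∀ f : K, q (f.1.2 : PowerSeries k) * x ∈ LinearMap.range ιN := fun f => by
      obtain ⟨y, hy, rfl⟩ := hdecomp f
      rw [hN]
      obtain ⟨z, hz⟩ := exists_div hmin hy
      show V EN (q y * x)
      rw [hz, hq]
      refine V_mul (fun a ha b hb => ?_) (V_shift.1 (hz ▸ hy)) hx
      have := (hD b).1 hb (γ₀ + a) ha
      simpa [add_comm] using this
    let φ₀ : K →ₗ[A] PowerSeries k :=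
      { toFun := fun f => q (f.1.2 : PowerSeries k) * x
        map_add' := fun f g => by
          rw [← add_mul]
          congr 1
        map_smul' := fun c f => by
          obtain ⟨y, hy, rfl⟩ := hdecomp f
          obtain ⟨z, hz⟩ := exists_div hmin hy
          show q ((c : PowerSeries k) * y) * x = (c : PowerSeries k) * (q y * x)
          rw [hz, mul_left_comm, hq, hq, mul_assoc] }
    let EN' := LinearEquiv.ofInjective ιN hιN
    let φ : K →ₗ[A] N := EN'.symm.toLinearMap ∘ₗ φ₀.codRestrict _ hmem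
    refine ⟨φ, funext fun d => ?_⟩
    have hv : val φ = x := by
      show ιN (EN'.symm ⟨φ₀ (u _ h0mem), hmem _⟩) = x
      rw [show ιN (EN'.symm ⟨φ₀ (u _ h0mem), hmem _⟩) = φ₀ (u _ h0mem) from
        congrArg Subtype.val (EN'.apply_symm_apply _)]
      show q (X ^ γ₀) * x = x
      rw [show q ((X : PowerSeries k) ^ γ₀) = 1 by simpa using hq 1, one_mul]
    simp [Φ, hv, x, d.2]
  let R : (A × A →ₗ[A] N) →ₗ[A] (K →ₗ[A] N) := LinearMap.lcomp A N K.subtype
  have hker : LinearMap.ker Φ = (LinearMap.range R).restrictScalars k := by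
    ext φ
    simp only [LinearMap.mem_ker, Submodule.restrictScalars_mem, LinearMap.mem_range]
    have hval : ∀ ψ : A × A →ₗ[A] N, val (R ψ) = X ^ γ₀ * (ιN (ψ (0, 1)) - s * ιN (ψ (1, 0))) := by
      intro ψ
      have h1 : (u _ h0mem).1 = (⟨-(X ^ γ₀ * s), A.neg_mem ((hIA _).1 h0mem).2⟩ : A) • ((1, 0) : A × A)
          + (⟨X ^ γ₀, ((hIA _).1 h0mem).1⟩ : A) • ((0, 1) : A × A) := by
        refine Prod.ext ?_ ?_ <;> simp [u]
      show ιN (ψ (u _ h0mem).1) = _
      rw [h1, map_add, map_smul, map_smul, map_add, map_smul, map_smul, hsm, hsm]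
      ring
    constructor
    · intro h
      have hval' : V G (val φ) := fun m hm => by
        by_contra hmG
        have := congrFun h ⟨m, (hQ m).2 ⟨hadm φ m hm, hmG⟩⟩
        exact hm this
      obtain ⟨y, hy⟩ := exists_div (a := γ₀) (fun g hg => by
        obtain ⟨z, -, hz | hz⟩ := (hG g).1 hg <;> omega) hval'
      have hy' : V {m | γ₀ + m ∈ G} y := V_shift.1 (hy ▸ hval')
      have h1 : V ({m | γ₀ + m ∈ G} \ EN) (y - part EN y) := V_sub_part EN hy'
      obtain ⟨r, hr⟩ := exists_div (a := e) (fun m hm => by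
        obtain ⟨z, hz, h' | h'⟩ := (hG _).1 hm.1
        · exact absurd ((show m = z by omega) ▸ hz) hm.2
        · omega) h1
      have hrN : V EN r := V_mono (fun m hm => by
        obtain ⟨z, hz, h' | h'⟩ := (hG _).1 hm.1
        · exact absurd ((show e + m = z by omega) ▸ hz) hm.2
        · exact (show m = z by omega) ▸ hz) (V_shift.1 (hr ▸ h1))
      obtain ⟨y₁, hy₁⟩ := (hN _).2 (V_part EN y)
      obtain ⟨y₀, hy₀⟩ := (hN _).2 (V_neg hrN)
      refine ⟨(LinearMap.toSpanSingleton A N y₀).coprod (LinearMap.toSpanSingleton A N y₁), ?_⟩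
      refine LinearMap.ext fun f => hιN (mul_left_cancel₀ (hXne γ₀) ?_)
      obtain ⟨z, hz, rfl⟩ := hdecomp f
      rw [hlin _ z hz, hlin _ z hz, hval, hy]
      congr 2
      simp only [LinearMap.coprod_apply, LinearMap.toSpanSingleton_apply, zero_smul, one_smul, zero_add,
        add_zero, hy₀, hy₁, mul_neg, sub_neg_eq_add]
      show part EN y + s * r = y
      rw [← hr, add_sub_cancel]
    · rintro ⟨ψ, rfl⟩
      funext d
      show coeff d.1 (val (R ψ)) = 0
      by_contra hne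
      refine ((hQ d.1).1 d.2).2 ?_
      rw [hval] at hne
      have h1 : V EN (ιN (ψ (0, 1))) := (hN _).1 (LinearMap.mem_range_self ιN _)
      have h2 : V EN (ιN (ψ (1, 0))) := (hN _).1 (LinearMap.mem_range_self ιN _)
      rw [mul_sub, map_sub] at hne
      by_cases hc : coeff d.1 (X ^ γ₀ * ιN (ψ (0, 1))) = 0
      · rw [hc, zero_sub, neg_eq_zero, ← mul_assoc] at hne
        simp only [s, ← pow_add] at hne
        have := (show V {g | ∃ y ∈ EN, g = γ₀ + e + y} (X ^ (γ₀ + e) * ιN (ψ (1, 0))) from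
          V_shift.2 (fun m hm => (⟨m, h2 m hm, rfl⟩ : ∃ y ∈ EN, γ₀ + e + m = γ₀ + e + y))) d.1 hne
        obtain ⟨y, hy, hd⟩ := this
        exact (hG _).2 ⟨y, hy, Or.inr hd⟩
      · have := (show V {g | ∃ y ∈ EN, g = γ₀ + y} (X ^ γ₀ * ιN (ψ (0, 1))) from
          V_shift.2 (fun m hm => (⟨m, h1 m hm, rfl⟩ : ∃ y ∈ EN, γ₀ + m = γ₀ + y))) d.1 hc
        obtain ⟨y, hy, hd⟩ := this
        exact (hG _).2 ⟨y, hy, Or.inl hd⟩
  have hip : Function.Exact K.subtype p := fun f =>
    ⟨fun h => ⟨⟨f, h⟩, rfl⟩, by rintro ⟨z, rfl⟩; exact z.2⟩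
  rw [CubicExtLib.length_ext_one (A := A) (K := K) (N := N) K.subtype p Subtype.val_injective hpsurj hip
    (LinearMap.range R).mkQ (Submodule.mkQ_surjective _) (fun φ => by
      rw [Submodule.mkQ_apply, Submodule.Quotient.mk_eq_zero, LinearMap.mem_range]
      exact ⟨fun ⟨ψ, h⟩ => ⟨ψ, h.symm⟩, fun ⟨ψ, h⟩ => ⟨ψ, h.symm⟩⟩)]
  let E : ((K →ₗ[A] N) ⧸ LinearMap.range R) ≃ₗ[k] (Qs → k) :=
    (Submodule.Quotient.restrictScalarsEquiv k (LinearMap.range R)).symm.trans
      ((Submodule.quotEquivOfEq _ _ hker.symm).trans (Φ.quotKerEquivOfSurjective hΦsurj))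
  haveI : FiniteDimensional k ((K →ₗ[A] N) ⧸ LinearMap.range R) := Module.Finite.equiv E.symm
  rw [QuadOrderExtLib.length_eq_finrank (k := k), E.finrank_eq, Module.finrank_fintype_fun_eq_card,
    Fintype.card_coe]

end Groth.Agent.MonomialExtLib
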