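import Groth.Agent.MonomialExtLib.Basic

/-!
# The singularity `E₆`
-/

set_option autoImplicit false
set_option backward.isDefEq.respectTransparency false
set_option linter.style.haveILetI false

universe u

open CategoryTheory Abelian PowerSeries

namespace Groth.Agent.MonomialExtLib

variable {k : Type u} [Field k] {A : Subalgebra k (PowerSeries k)}

/-- Self-extensions of a monomial module on two generators. -/
theorem length_ext_self [IsAlgClosed k] {Γ E : Set ℕ} (hA : ∀ f, f ∈ A ↔ V Γ f)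
    (hΓE : ∀ a ∈ Γ, ∀ b ∈ E, a + b ∈ E) (e : ℕ) (he : e ∈ E) (h0 : 0 ∈ E)
    (hE : ∀ d ∈ E, d ∉ Γ → e ≤ d ∧ d - e ∈ Γ) (γ₀ : ℕ) (I D G : Set ℕ)
    (hI : ∀ γ, γ ∈ I ↔ γ ∈ Γ ∧ γ + e ∈ Γ) (hγ₀ : γ₀ ∈ I) (hmin : ∀ γ ∈ I, γ₀ ≤ γ)
    (hD : ∀ d, d ∈ D ↔ ∀ γ ∈ I, d + (γ - γ₀) ∈ E)
    (hG : ∀ g, g ∈ G ↔ ∃ y ∈ E, g = γ₀ + y ∨ g = γ₀ + e + y)
    (Qs : Finset ℕ) (hQ : ∀ d, d ∈ Qs ↔ d ∈ D ∧ d ∉ G) :
    Module.length A (Ext.{u}
      (ModuleCat.of A ↥(Submodule.span A ({1, (X : PowerSeries k) ^ e} : Set (PowerSeries k))))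
      (ModuleCat.of A ↥(Submodule.span A ({1, (X : PowerSeries k) ^ e} : Set (PowerSeries k)))) 1)
      = (Qs.card : ℕ∞) :=
  length_ext_two hA hΓE e γ₀ I D G hI hγ₀ hmin hD hG Qs hQ
    (Submodule.subtype _) Subtype.val_injective (fun f => by rw [Submodule.range_subtype])
    (Submodule.subtype _) Subtype.val_injective
    (fun f => by rw [Submodule.range_subtype, mem_span_pair hA he h0 hΓE hE])

/-- The semigroup `⟨3, 4⟩`. -/
def Γ34 : Set ℕ := {m | m = 0 ∨ m = 3 ∨ m = 4 ∨ 6 ≤ m}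

theorem mem_Γ34 {m : ℕ} : m ∈ Γ34 ↔ (m = 0 ∨ m = 3 ∨ m = 4 ∨ 6 ≤ m) := Iff.rfl

theorem closure34 (m : ℕ) : m ∈ AddSubmonoid.closure ({3, 4} : Set ℕ) ↔ m ∈ Γ34 := by
  rw [AddSubmonoid.mem_closure_pair, mem_Γ34]
  constructor
  · rintro ⟨a, b, rfl⟩
    simp only [smul_eq_mul]
    rcases a with _ | _ | a <;> rcases b with _ | _ | b <;> omega
  · intro h
    obtain ⟨b, hb, a, ha⟩ : ∃ b < 3, ∃ a, m = 3 * a + 4 * b := by
      rcases (show m % 3 = 0 ∨ m % 3 = 1 ∨ m % 3 = 2 by omega) with h3 | h3 | h3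
      · exact ⟨0, by omega, m / 3, by omega⟩
      · exact ⟨1, by omega, (m - 4) / 3, by omega⟩
      · exact ⟨2, by omega, (m - 8) / 3, by omega⟩
    exact ⟨a, b, by simp only [smul_eq_mul]; omega⟩

variable (hA : ∀ f : PowerSeries k, f ∈ A ↔ V Γ34 f)

include hA

theorem length_M1 [IsAlgClosed k] :
    Module.length A (Ext.{u}
      (ModuleCat.of A ↥(Submodule.span A ({1, (X : PowerSeries k) ^ 5} : Set (PowerSeries k))))
      (ModuleCat.of A ↥(Submodule.span A ({1, (X : PowerSeries k) ^ 5} : Set (PowerSeries k)))) 1) = 2 := by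
  rw [length_ext_self hA (E := {m | m = 0 ∨ 3 ≤ m}) ?_ 5 ?_ ?_ ?_ 3 {m | m = 3 ∨ m = 4 ∨ 6 ≤ m}
    {m | 3 ≤ m} {m | m = 3 ∨ 6 ≤ m} ?_ ?_ ?_ ?_ ?_ {4, 5} ?_]
  · rfl
  all_goals simp only [Set.mem_setOf_eq, mem_Γ34, Finset.mem_insert, Finset.mem_singleton]
  · intro a ha b hb; omega
  · simp
  · simp
  · intro d hd hd'; omega
  · intro γ; omega
  · simp
  · intro γ hγ; omega
  · intro d
    refine ⟨fun h γ hγ => by omega, fun h => ?_⟩
    have h3 := h 3 (by omega); have h4 := h 4 (by omega)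
    omega
  · intro g
    refine ⟨fun h => ?_, by rintro ⟨y, hy, h⟩; omega⟩
    rcases h with h | h
    · exact ⟨0, by omega, by omega⟩
    · exact ⟨g - 3, by omega, by omega⟩
  · intro d; omega

theorem length_M1' [IsAlgClosed k] :
    Module.length A (Ext.{u}
      (ModuleCat.of A ↥(Submodule.span A ({1, (X : PowerSeries k)} : Set (PowerSeries k))))
      (ModuleCat.of A ↥(Submodule.span A ({1, (X : PowerSeries k)} : Set (PowerSeries k)))) 1) = 2 := by
  rw [← pow_one (X : PowerSeries k)]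
  rw [length_ext_self hA (E := {m | m ≠ 2}) ?_ 1 ?_ ?_ ?_ 3 {m | m = 3 ∨ 6 ≤ m}
    {m | m ≠ 2} {m | 3 ≤ m} ?_ ?_ ?_ ?_ ?_ {0, 1} ?_]
  · rfl
  all_goals simp only [Set.mem_setOf_eq, mem_Γ34, Finset.mem_insert, Finset.mem_singleton]
  · intro a ha b hb; omega
  · simp
  · simp
  · intro d hd hd'; omega
  · intro γ; omega
  · simp
  · intro γ hγ; omega
  · intro d
    refine ⟨fun h γ hγ => by omega, fun h => ?_⟩
    have h3 := h 3 (by omega)
    omega
  · intro g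
    refine ⟨fun h => ?_, by rintro ⟨y, hy, h⟩; omega⟩
    rcases eq_or_ne g 5 with h5 | h5
    · exact ⟨1, by omega, by omega⟩
    · exact ⟨g - 3, by omega, by omega⟩
  · intro d; omega

theorem length_M2 [IsAlgClosed k] :
    Module.length A (Ext.{u}
      (ModuleCat.of A ↥(Submodule.span A ({1, (X : PowerSeries k) ^ 2} : Set (PowerSeries k))))
      (ModuleCat.of A ↥(Submodule.span A ({1, (X : PowerSeries k) ^ 2} : Set (PowerSeries k)))) 1) = 4 := by
  rw [length_ext_self hA (E := {m | m ≠ 1}) ?_ 2 ?_ ?_ ?_ 4 {m | m = 4 ∨ 6 ≤ m}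
    {m | m ≠ 1} {m | m = 4 ∨ 6 ≤ m} ?_ ?_ ?_ ?_ ?_ {0, 2, 3, 5} ?_]
  · rfl
  all_goals simp only [Set.mem_setOf_eq, mem_Γ34, Finset.mem_insert, Finset.mem_singleton]
  · intro a ha b hb; omega
  · simp
  · simp
  · intro d hd hd'; omega
  · intro γ; omega
  · simp
  · intro γ hγ; omega
  · intro d
    refine ⟨fun h γ hγ => by omega, fun h => ?_⟩
    have h3 := h 4 (by omega)
    omega
  · intro g
    refine ⟨fun h => ?_, by rintro ⟨y, hy, h⟩; omega⟩
    rcases h with h | h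
    · exact ⟨0, by omega, by omega⟩
    · exact ⟨g - 4, by omega, by omega⟩
  · intro d; omega

theorem mem_span_three (f : PowerSeries k) :
    f ∈ Submodule.span A ({1, (X : PowerSeries k), (X : PowerSeries k) ^ 2} : Set (PowerSeries k)) := by
  have h5 := fun g => (mem_span_pair hA (E := {m | m ≠ 1}) (e := 2) (show (2 : ℕ) ≠ 1 by omega)
    (show (0 : ℕ) ≠ 1 by omega)
    (fun a ha b hb => by simp only [Set.mem_setOf_eq, mem_Γ34] at *; omega)
    (fun d hd hd' => by simp only [Set.mem_setOf_eq, mem_Γ34] at *; omega) g).2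
  have hle : Submodule.span A ({1, (X : PowerSeries k) ^ 2} : Set (PowerSeries k)) ≤
      Submodule.span A ({1, (X : PowerSeries k), (X : PowerSeries k) ^ 2} : Set (PowerSeries k)) :=
    Submodule.span_mono (by intro x hx; simp only [Set.mem_insert_iff, Set.mem_singleton_iff] at hx ⊢; tauto)
  have h1 : (algebraMap k A (coeff 1 f)) • (X : PowerSeries k) ∈
      Submodule.span A ({1, (X : PowerSeries k), (X : PowerSeries k) ^ 2} : Set (PowerSeries k)) :=
    Submodule.smul_mem _ _ (Submodule.subset_span (by simp))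
  have h2 := hle (h5 (f - C (coeff 1 f) * X) (fun m hm => by
    show m ≠ 1
    rintro rfl
    simp at hm))
  rw [show (algebraMap k A (coeff 1 f)) • (X : PowerSeries k) = C (coeff 1 f) * X by
    rw [algebraMap_smul, PowerSeries.smul_eq_C_mul]] at h1
  simpa using Submodule.add_mem _ h2 h1

set_option synthInstance.maxHeartbeats 400000 in
set_option maxHeartbeats 2000000 in
theorem length_ext_R [IsAlgClosed k] {M : Type u} [AddCommGroup M] [Module A M] [Module k M]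
    [IsScalarTower k A M] (ι : M ≃ₗ[A] PowerSeries k) :
    Module.length A (Ext.{u} (ModuleCat.of A M) (ModuleCat.of A M) 1) = 6 := by
  classical
  have hsm : ∀ (c : A) (z : PowerSeries k), c • z = (c : PowerSeries k) * z := fun _ _ => rfl
  let p₀ : A × A × A →ₗ[A] PowerSeries k := (LinearMap.toSpanSingleton A _ 1).coprod
    ((LinearMap.toSpanSingleton A _ X).coprod (LinearMap.toSpanSingleton A _ (X ^ 2)))
  have hp₀ : ∀ f, p₀ f = (f.1 : PowerSeries k) + ((f.2.1 : PowerSeries k) * X + (f.2.2 : PowerSeries k) * X ^ 2) :=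
    fun f => by simp [p₀, hsm]
  let p : A × A × A →ₗ[A] M := ι.symm.toLinearMap ∘ₗ p₀
  have hpsurj : Function.Surjective p := fun m => by
    obtain ⟨a, z, hz, h⟩ := Submodule.mem_span_insert.1 (mem_span_three hA (ι m))
    obtain ⟨b, w, hw, rfl⟩ := Submodule.mem_span_insert.1 hz
    obtain ⟨c, rfl⟩ := Submodule.mem_span_singleton.1 hw
    refine ⟨(a, b, c), ι.injective ?_⟩
    show ι (ι.symm (p₀ (a, b, c))) = ι m
    rw [LinearEquiv.apply_symm_apply, hp₀, h, hsm, hsm, hsm]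
    ring
  let K := LinearMap.ker p
  have hK : ∀ f, f ∈ K ↔ p₀ f = 0 := fun f => by
    rw [LinearMap.mem_ker]
    show ι.symm (p₀ f) = 0 ↔ _
    exact map_eq_zero_iff ι.symm ι.symm.injective
  have hX : ∀ d, d ∈ Γ34 → (X : PowerSeries k) ^ d ∈ A := fun d hd => (hA _).2 (V_X_pow hd)
  have hdiv : ∀ f : K, (∃ q, (f.1.2.1 : PowerSeries k) = X ^ 3 * q) ∧ ∃ q, (f.1.2.2 : PowerSeries k) = X ^ 3 * q := by
    intro f
    have h0 := (hK _).1 f.2
    rw [hp₀] at h0
    have hz : ∀ (a : A) m, m ∉ Γ34 → coeff m (a : PowerSeries k) = 0 := fun a m hm => by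
      by_contra hne
      exact hm ((hA _).1 a.2 m hne)
    have e1 := congrArg (coeff 1) h0
    have e2 := congrArg (coeff 2) h0
    simp [PowerSeries.coeff_succ_mul_X, PowerSeries.coeff_mul_X_pow', hz _ 1 (by simp [mem_Γ34]),
      hz _ 2 (by simp [mem_Γ34])] at e1 e2
    constructor <;> refine PowerSeries.X_pow_dvd_iff.2 fun m hm => ?_
    · rcases (show m = 0 ∨ m = 1 ∨ m = 2 by omega) with rfl | rfl | rfl
      · rw [coeff_zero_eq_constantCoeff]; exact e1
      all_goals exact hz _ _ (by simp [mem_Γ34])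
    · rcases (show m = 0 ∨ m = 1 ∨ m = 2 by omega) with rfl | rfl | rfl
      · rw [coeff_zero_eq_constantCoeff]; exact e2
      all_goals exact hz _ _ (by simp [mem_Γ34])
  let v₁ : K := ⟨(⟨-(X ^ 4), A.neg_mem (hX 4 (by simp [mem_Γ34]))⟩, ⟨X ^ 3, hX 3 (by simp [mem_Γ34])⟩, 0),
    (hK _).2 (by rw [hp₀]; simp; ring)⟩
  let v₃ : K := ⟨(0, ⟨X ^ 4, hX 4 (by simp [mem_Γ34])⟩, ⟨-(X ^ 3), A.neg_mem (hX 3 (by simp [mem_Γ34]))⟩),
    (hK _).2 (by rw [hp₀]; simp; ring)⟩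
  have hX6 : ∀ r : PowerSeries k, X ^ 6 * r ∈ A := fun r =>
    (hA _).2 (V_shift.2 fun m _ => Or.inr (Or.inr (Or.inr (Nat.le_add_right 6 m))))
  let q : PowerSeries k → PowerSeries k := fun f => PowerSeries.mk fun m => coeff (m + 3) f
  have hq : ∀ r, q (X ^ 3 * r) = r := fun r => by
    ext m
    simp [q, PowerSeries.coeff_X_pow_mul]
  have hX6ne : (X : PowerSeries k) ^ 6 ≠ 0 := pow_ne_zero _ X_ne_zero
  let x₁ : (K →ₗ[A] M) → PowerSeries k := fun φ => ι (φ v₁)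
  let x₂ : (K →ₗ[A] M) → PowerSeries k := fun φ => X * ι (φ v₁) - ι (φ v₃)
  have hlin : ∀ (φ : K →ₗ[A] M) (f : K), ι (φ f) =
      q (f.1.2.1 : PowerSeries k) * x₁ φ + q (f.1.2.2 : PowerSeries k) * x₂ φ := by
    intro φ f
    obtain ⟨⟨q₁, h₁⟩, ⟨q₂, h₂⟩⟩ := hdiv f
    have h0 := (hK _).1 f.2
    rw [hp₀, h₁, h₂] at h0
    let a : A := ⟨X ^ 6 * (q₁ + X * q₂), hX6 _⟩
    let b : A := ⟨X ^ 6 * q₂, hX6 _⟩
    let c : A := ⟨X ^ 6, by simpa using hX6 1⟩
    have e : c • f + b • v₃ = a • v₁ := by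
      refine Subtype.ext (Prod.ext (Subtype.ext ?_) (Prod.ext (Subtype.ext ?_) (Subtype.ext ?_)))
      · simp [a, b, c, v₁, v₃]
        linear_combination (X : PowerSeries k) ^ 6 * h0
      · simp [a, b, c, v₁, v₃, h₁]; ring
      · simp [a, b, c, v₁, v₃, h₂]; ring
    have e2 := congrArg (fun z => ι (φ z)) e
    simp only [map_smul, map_add, hsm, a, b, c] at e2
    rw [h₁, h₂, hq, hq]
    apply mul_left_cancel₀ hX6ne
    simp only [x₁, x₂]
    linear_combination e2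
  let Φ : (K →ₗ[A] M) →ₗ[k] (Fin 3 ⊕ Fin 3 → k) :=
    { toFun := fun φ => Sum.elim (fun l => coeff l.val (x₁ φ)) (fun l => coeff l.val (x₂ φ))
      map_add' := fun φ ψ => by
        funext l
        rcases l with l | l <;> simp [x₁, x₂, mul_add]
        ring
      map_smul' := fun c φ => by
        funext l
        rcases l with l | l <;>
          simp [x₁, x₂, mul_sub, show ∀ (c : k) (z : M), ι (c • z) = c • ι z from fun c z => by
            rw [← algebraMap_smul A c z, map_smul, algebraMap_smul]] }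
  have hΦsurj : Function.Surjective Φ := by
    intro v
    let y₁ : PowerSeries k := PowerSeries.mk fun m => if h : m < 3 then v (Sum.inl ⟨m, h⟩) else 0
    let y₂ : PowerSeries k := PowerSeries.mk fun m => if h : m < 3 then v (Sum.inr ⟨m, h⟩) else 0
    let φ₀ : K →ₗ[A] PowerSeries k :=
      { toFun := fun f => q (f.1.2.1 : PowerSeries k) * y₁ + q (f.1.2.2 : PowerSeries k) * y₂
        map_add' := fun f g => by
          have hqa : ∀ a b, q (a + b) = q a + q b := fun a b => by ext m; simp [q]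
          simp only [Submodule.coe_add, Prod.snd_add, Prod.fst_add, AddMemClass.coe_add, hqa]
          ring
        map_smul' := fun c f => by
          obtain ⟨⟨q₁, h₁⟩, ⟨q₂, h₂⟩⟩ := hdiv f
          show q ((c : PowerSeries k) * f.1.2.1) * y₁ + q ((c : PowerSeries k) * f.1.2.2) * y₂ =
            (c : PowerSeries k) * (q (f.1.2.1 : PowerSeries k) * y₁ + q (f.1.2.2 : PowerSeries k) * y₂)
          rw [h₁, h₂, mul_left_comm, mul_left_comm (c : PowerSeries k) (X ^ 3) q₂, hq, hq, hq, hq]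
          ring }
    refine ⟨ι.symm.toLinearMap ∘ₗ φ₀, ?_⟩
    have e1 : x₁ (ι.symm.toLinearMap ∘ₗ φ₀) = y₁ := by
      show ι (ι.symm (φ₀ v₁)) = y₁
      rw [LinearEquiv.apply_symm_apply]
      show q ((X : PowerSeries k) ^ 3) * y₁ + q ((0 : A) : PowerSeries k) * y₂ = y₁
      rw [show q ((X : PowerSeries k) ^ 3) = 1 by simpa using hq 1,
        show q ((0 : A) : PowerSeries k) = 0 by simpa using hq 0]
      ring
    have e2 : x₂ (ι.symm.toLinearMap ∘ₗ φ₀) = y₂ := by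
      show X * x₁ (ι.symm.toLinearMap ∘ₗ φ₀) - ι (ι.symm (φ₀ v₃)) = y₂
      rw [LinearEquiv.apply_symm_apply]
      show X * x₁ (ι.symm.toLinearMap ∘ₗ φ₀) - (q ((X : PowerSeries k) ^ 4) * y₁ + q (-(X : PowerSeries k) ^ 3) * y₂) = y₂
      rw [e1, show q ((X : PowerSeries k) ^ 4) = X by rw [pow_succ, hq],
        show q (-(X : PowerSeries k) ^ 3) = -1 by rw [← mul_neg_one, hq]]
      ring
    funext l
    rcases l with l | l <;> simp [Φ, e1, e2, y₁, y₂]
  let R : (A × A × A →ₗ[A] M) →ₗ[A] (K →ₗ[A] M) := LinearMap.lcomp A M K.subtype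
  have hker : LinearMap.ker Φ = (LinearMap.range R).restrictScalars k := by
    ext φ
    simp only [LinearMap.mem_ker, Submodule.restrictScalars_mem, LinearMap.mem_range]
    constructor
    · intro h
      obtain ⟨r₁, hr₁⟩ : (X : PowerSeries k) ^ 3 ∣ x₁ φ :=
        PowerSeries.X_pow_dvd_iff.2 fun m hm => congrFun h (Sum.inl ⟨m, hm⟩)
      obtain ⟨r₂, hr₂⟩ : (X : PowerSeries k) ^ 3 ∣ x₂ φ :=
        PowerSeries.X_pow_dvd_iff.2 fun m hm => congrFun h (Sum.inr ⟨m, hm⟩)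
      refine ⟨(0 : A →ₗ[A] M).coprod ((LinearMap.toSpanSingleton A M (ι.symm r₁)).coprod
        (LinearMap.toSpanSingleton A M (ι.symm r₂))), LinearMap.ext fun f => ι.injective ?_⟩
      obtain ⟨⟨q₁, h₁⟩, ⟨q₂, h₂⟩⟩ := hdiv f
      rw [hlin φ f, hr₁, hr₂]
      show ι ((0 : A →ₗ[A] M) f.1.1 + ((f.1.2.1) • ι.symm r₁ + (f.1.2.2) • ι.symm r₂)) = _
      simp [hsm, h₁, h₂, hq]
      ring
    · rintro ⟨ψ, rfl⟩
      obtain ⟨r₀, hr₀⟩ : ∃ r, ι (ψ (1, 0, 0)) = r := ⟨_, rfl⟩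
      obtain ⟨r₁, hr₁⟩ : ∃ r, ι (ψ (0, 1, 0)) = r := ⟨_, rfl⟩
      obtain ⟨r₂, hr₂⟩ : ∃ r, ι (ψ (0, 0, 1)) = r := ⟨_, rfl⟩
      have hψ : ∀ f, ι (ψ f) = (f.1 : PowerSeries k) * r₀
          + (f.2.1 : PowerSeries k) * r₁ + (f.2.2 : PowerSeries k) * r₂ := by
        intro f
        have : f = f.1 • ((1, 0, 0) : A × A × A) + f.2.1 • (0, 1, 0) + f.2.2 • (0, 0, 1) := by
          ext <;> simp
        conv_lhs => rw [this]
        simp only [map_add, map_smul, hsm, hr₀, hr₁, hr₂]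
      have e1 : x₁ (R ψ) = X ^ 3 * (r₁ - X * r₀) := by
        show ι (ψ v₁.1) = _
        rw [hψ]; simp [v₁]; ring
      have e2 : x₂ (R ψ) = X ^ 3 * (r₂ - X ^ 2 * r₀) := by
        show X * x₁ (R ψ) - ι (ψ v₃.1) = _
        rw [hψ, e1]; simp [v₃]; ring
      funext l
      rcases l with l | l <;>
        simp [Φ, e1, e2, PowerSeries.coeff_X_pow_mul', show ¬ (3 : ℕ) ≤ l.val by omega]
  have hip : Function.Exact K.subtype p := fun f =>
    ⟨fun h => ⟨⟨f, h⟩, rfl⟩, by rintro ⟨z, rfl⟩; exact z.2⟩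
  rw [CubicExtLib.length_ext_one (A := A) (K := K) (N := M) K.subtype p Subtype.val_injective hpsurj hip
    (LinearMap.range R).mkQ (Submodule.mkQ_surjective _) (fun φ => by
      rw [Submodule.mkQ_apply, Submodule.Quotient.mk_eq_zero, LinearMap.mem_range]
      exact ⟨fun ⟨ψ, h⟩ => ⟨ψ, h.symm⟩, fun ⟨ψ, h⟩ => ⟨ψ, h.symm⟩⟩)]
  let E : ((K →ₗ[A] M) ⧸ LinearMap.range R) ≃ₗ[k] (Fin 3 ⊕ Fin 3 → k) :=
    (Submodule.Quotient.restrictScalarsEquiv k (LinearMap.range R)).symm.trans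
      ((Submodule.quotEquivOfEq _ _ hker.symm).trans (Φ.quotKerEquivOfSurjective hΦsurj))
  haveI : FiniteDimensional k ((K →ₗ[A] M) ⧸ LinearMap.range R) := Module.Finite.equiv E.symm
  rw [QuadOrderExtLib.length_eq_finrank (k := k), E.finrank_eq, Module.finrank_fintype_fun_eq_card,
    Fintype.card_sum, Fintype.card_fin]
  rfl

theorem length_M3 [IsAlgClosed k] :
    Module.length A (Ext.{u}
      (ModuleCat.of A ↥(Submodule.span A ({1, (X : PowerSeries k), (X : PowerSeries k) ^ 2} : Set (PowerSeries k))))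
      (ModuleCat.of A ↥(Submodule.span A ({1, (X : PowerSeries k), (X : PowerSeries k) ^ 2} : Set (PowerSeries k)))) 1) = 6 :=
  length_ext_R hA ((LinearEquiv.ofEq _ _ (eq_top_iff.2 fun f _ => mem_span_three hA f)).trans Submodule.topEquiv)

end Groth.Agent.MonomialExtLib
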